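import Groth.Agent.Gaga.H973.AnCoc

/-!
# Analytification commutes with twisting by a cocycle

`pushTw d d' h : anPush ⋙ Tw d ≅ Tw d' ⋙ anPush` when `d'` is the analytification of the cocycle `d`;
`tw_analytify c : Nonempty (Tw c ⋙ An.analytify X ≅ An.analytify X ⋙ Tw (anCoc c))` by uniqueness of left adjoints.
-/

set_option autoImplicit false
set_option linter.dupNamespace false
set_option linter.unusedVariables false

open CategoryTheory TopologicalSpace Opposite AlgebraicGeometry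

noncomputable section

namespace Groth.Agent.Gaga.H112.TwAn

open Groth.Agent.Gaga.H975.ModSec Groth.Agent.Gaga.H973.Tw Groth.Agent.Gaga.H973.TwEquiv
open Groth.Agent.Gaga.H975.AnSec Groth.Agent.Gaga.H973.AnCoc

variable {X : Scheme.{0}} [X.Over An.SC]

/-- Sections of the direct image, in the language of `Mod`. -/
def up {P : An.AnMod X} {V : Opens (spc X)} (s : Sec (R := An.hol X) P (pre V)) :
    Sec (T := spc X) (R := X.sheaf) ((An.anPush X).obj P) V := s

/-- Sections of the direct image, in the language of `Mod`. -/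
def dn {P : An.AnMod X} {V : Opens (spc X)} (s : Sec (T := spc X) (R := X.sheaf) ((An.anPush X).obj P) V) :
    Sec (R := An.hol X) P (pre V) := s

section

variable {P Q : An.AnMod X} {V W : Opens (spc X)}

theorem dn_up (s : Sec (R := An.hol X) P (pre V)) : dn (up s) = s := rfl

theorem up_dn (s : Sec (T := spc X) (R := X.sheaf) ((An.anPush X).obj P) V) : up (dn s) = s := rfl

theorem up_add (s t : Sec (R := An.hol X) P (pre V)) : up (s + t) = up s + up t := rfl

theorem dn_add (s t : Sec (T := spc X) (R := X.sheaf) ((An.anPush X).obj P) V) : dn (s + t) = dn s + dn t := rfl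

theorem dn_smul (r : O (T := spc X) X.sheaf V) (s : Sec (T := spc X) (R := X.sheaf) ((An.anPush X).obj P) V) :
    dn (r • s) = toHol V r • dn s := rfl

theorem up_smul (r : O (T := spc X) X.sheaf V) (s : Sec (R := An.hol X) P (pre V)) :
    up (toHol V r • s) = r • up s := rfl

theorem dn_res (h : W ≤ V) (s : Sec (T := spc X) (R := X.sheaf) ((An.anPush X).obj P) V) :
    dn (res (T := spc X) (R := X.sheaf) ((An.anPush X).obj P) h s) = res (R := An.hol X) P (pre_mono h) (dn s) := rfl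

theorem up_res (h : W ≤ V) (s : Sec (R := An.hol X) P (pre V)) :
    up (res (R := An.hol X) P (pre_mono h) s) = res (T := spc X) (R := X.sheaf) ((An.anPush X).obj P) h (up s) := rfl

theorem dn_app (f : P ⟶ Q) (s : Sec (T := spc X) (R := X.sheaf) ((An.anPush X).obj P) V) :
    dn (app (T := spc X) (R := X.sheaf) ((An.anPush X).map f) V s) = app (R := An.hol X) f (pre V) (dn s) := rfl

end

variable {𝒰 : Cov (spc X)}

/-- `d'` is the analytification of the cocycle `d`. -/
def IsAn (d : Coc 𝒰 X.sheaf) (d' : Coc (anCov 𝒰) (An.hol X)) : Prop :=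
  ∀ i j (W : Opens (spc X)) (hi : W ≤ 𝒰.U i) (hj : W ≤ 𝒰.U j),
    d'.G (W := pre W) i j (pre_mono hi) (pre_mono hj) = toHol W (d.G i j hi hj)

theorem isAn_anCoc (c : Coc 𝒰 X.sheaf) : IsAn c (anCoc c) := fun i j W hi hj =>
  (anCoc_G c i j hi hj le_rfl _ _).trans
    (show resO (R := An.hol X) (le_refl (pre W)) (toHol W (c.G i j hi hj)) = toHol W (c.G i j hi hj) from
      resO_self (R := An.hol X) _ _)

theorem IsAn.inv {d : Coc 𝒰 X.sheaf} {d' : Coc (anCov 𝒰) (An.hol X)} (h : IsAn d d') : IsAn d.inv d'.inv :=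
  fun i j W hi hj => by
    rw [Coc.inv_G, Coc.inv_G]
    exact h j i W hj hi

variable {d : Coc 𝒰 X.sheaf} {d' : Coc (anCov 𝒰) (An.hol X)}

/-- Component over the complex points of an open set of the scheme. -/
def cp (P : An.AnMod X) {V : Opens (spc X)} (m : Sec (R := An.hol X) (twObj d' P) (pre V)) (i : 𝒰.ι)
    (W : Opens (spc X)) (hV : W ≤ V) (hi : W ≤ 𝒰.U i) : Sec (R := An.hol X) P (pre W) :=
  cmp (T := An.top X) (R := An.hol X) (𝒰 := anCov 𝒰) d' m i (pre W) (pre_mono hV) (pre_mono hi)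

section

variable {P Q : An.AnMod X} {V : Opens (spc X)}

theorem cp_add (m m' : Sec (R := An.hol X) (twObj d' P) (pre V)) (i : 𝒰.ι) (W : Opens (spc X)) (hV : W ≤ V)
    (hi : W ≤ 𝒰.U i) : cp P (m + m') i W hV hi = cp P m i W hV hi + cp P m' i W hV hi :=
  cmp_add (T := An.top X) (R := An.hol X) (𝒰 := anCov 𝒰) m m' i (pre W) (pre_mono hV) (pre_mono hi)

theorem cp_smul (r : O (T := spc X) X.sheaf V) (m : Sec (R := An.hol X) (twObj d' P) (pre V)) (i : 𝒰.ι)
    (W : Opens (spc X)) (hV : W ≤ V) (hi : W ≤ 𝒰.U i) :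
    cp P (toHol V r • m) i W hV hi = toHol W (resO hV r) • cp P m i W hV hi := by
  refine (cmp_smul (T := An.top X) (R := An.hol X) (𝒰 := anCov 𝒰) (toHol V r) m i (pre W) (pre_mono hV)
    (pre_mono hi)).trans ?_
  rw [show toHol W (resO hV r) = resO (pre_mono hV) (toHol V r) from toHol_res hV r]
  rfl

theorem cp_res {V' : Opens (spc X)} (h : V' ≤ V) (m : Sec (R := An.hol X) (twObj d' P) (pre V)) (i : 𝒰.ι)
    (W : Opens (spc X)) (hV : W ≤ V') (hi : W ≤ 𝒰.U i) :
    cp P (res (R := An.hol X) (twObj d' P) (pre_mono h) m) i W hV hi = cp P m i W (hV.trans h) hi :=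
  cmp_res (T := An.top X) (R := An.hol X) (𝒰 := anCov 𝒰) (pre_mono h) m i (pre W) (pre_mono hV) (pre_mono hi)

theorem res_cp (m : Sec (R := An.hol X) (twObj d' P) (pre V)) (i : 𝒰.ι) {W W' : Opens (spc X)} (hV : W ≤ V)
    (hi : W ≤ 𝒰.U i) (h : W' ≤ W) :
    res (R := An.hol X) P (pre_mono h) (cp P m i W hV hi) = cp P m i W' (h.trans hV) (h.trans hi) :=
  res_cmp (T := An.top X) (R := An.hol X) (𝒰 := anCov 𝒰) m i (pre_mono hV) (pre_mono hi) (pre_mono h)

theorem cp_rel (h : IsAn d d') (m : Sec (R := An.hol X) (twObj d' P) (pre V)) (i j : 𝒰.ι) (W : Opens (spc X))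
    (hV : W ≤ V) (hi : W ≤ 𝒰.U i) (hj : W ≤ 𝒰.U j) :
    cp P m i W hV hi = toHol W (d.G i j hi hj) • cp P m j W hV hj := by
  rw [← h i j W hi hj]
  exact cmp_rel (T := An.top X) (R := An.hol X) (𝒰 := anCov 𝒰) m i j (pre W) (pre_mono hV) (pre_mono hi)
    (pre_mono hj)

theorem cp_map (f : P ⟶ Q) (m : Sec (R := An.hol X) (twObj d' P) (pre V)) (i : 𝒰.ι) (W : Opens (spc X))
    (hV : W ≤ V) (hi : W ≤ 𝒰.U i) :
    cp Q (app (R := An.hol X) (twMap d' f) (pre V) m) i W hV hi = app (R := An.hol X) f (pre W) (cp P m i W hV hi) :=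
  cmp_twMap (T := An.top X) (R := An.hol X) (𝒰 := anCov 𝒰) d' f m i (pre W) (pre_mono hV) (pre_mono hi)

theorem cp_ext (a : 𝒰.ι) (hV : V ≤ 𝒰.U a) {m m' : Sec (R := An.hol X) (twObj d' P) (pre V)}
    (h : cp P m a V le_rfl hV = cp P m' a V le_rfl hV) : m = m' :=
  tw_ext_of_le (T := An.top X) (R := An.hol X) (𝒰 := anCov 𝒰) (i := a) (V := pre V) (pre_mono hV) h

theorem exists_cp (a : 𝒰.ι) (hV : V ≤ 𝒰.U a) (p : Sec (R := An.hol X) P (pre V)) :
    ∃ m : Sec (R := An.hol X) (twObj d' P) (pre V), cp P m a V le_rfl hV = p :=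
  ⟨loc (T := An.top X) (R := An.hol X) (𝒰 := anCov 𝒰) d' a (pre_mono hV) p,
    (cmp_loc_self (T := An.top X) (R := An.hol X) (𝒰 := anCov 𝒰) (c := d') a (pre_mono hV) p (pre V) le_rfl
      (pre_mono hV)).trans (res_self (R := An.hol X) P _ _)⟩

end

/-- The comparison `anPush (Tw d' P) ⟶ Tw d (anPush P)`. -/
def pushTwHom (h : IsAn d d') (P : An.AnMod X) :
    (show Mod (T := spc X) X.sheaf from (An.anPush X).obj (twObj d' P)) ⟶
      twObj (T := spc X) (R := X.sheaf) d ((An.anPush X).obj P) :=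
  mkHom (T := spc X) (R := X.sheaf) d
    (fun V m i W hV hi => up (cp P (dn (P := twObj d' P) m) i W hV hi))
    (fun V m i W W' hV hi hW => by rw [← up_res hW, res_cp _ i hV hi hW])
    (fun V m i j W hV hi hj => by rw [cp_rel h _ i j W hV hi hj, up_smul])
    (fun V m m' i W hV hi => by rw [dn_add, cp_add, up_add])
    (fun V r m i W hV hi => by rw [dn_smul, cp_smul, up_smul])
    (fun V V' hV' m i W hV hi => by rw [dn_res hV', cp_res hV'])

theorem cmp_pushTwHom (h : IsAn d d') (P : An.AnMod X) {V : Opens (spc X)}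
    (m : Sec (T := spc X) (R := X.sheaf) ((An.anPush X).obj (twObj d' P)) V) (i : 𝒰.ι)
    (W : Opens (spc X)) (hV : W ≤ V) (hi : W ≤ 𝒰.U i) :
    cmp (T := spc X) (R := X.sheaf) d (app (T := spc X) (R := X.sheaf) (pushTwHom h P) V m) i W hV hi =
      up (cp P (dn (P := twObj d' P) m) i W hV hi) :=
  cmp_mkHom (T := spc X) (R := X.sheaf) d _ _ _ _ _ _ V m i W hV hi

theorem isIso_pushTwHom (h : IsAn d d') (P : An.AnMod X) : IsIso (pushTwHom h P) := by
  refine isIso_of (T := spc X) (R := X.sheaf) 𝒰 _ fun a V hV => ⟨fun m m' hm => ?_, fun t => ?_⟩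
  · have h1 := congrArg (fun t => dn (cmp (T := spc X) (R := X.sheaf) d t a V le_rfl hV)) hm
    have h2 : dn (up (cp P (dn (P := twObj d' P) m) a V le_rfl hV)) =
        dn (up (cp P (dn (P := twObj d' P) m') a V le_rfl hV)) := by
      rw [← cmp_pushTwHom h P m a V le_rfl hV, ← cmp_pushTwHom h P m' a V le_rfl hV]
      exact h1
    exact cp_ext a hV h2
  · obtain ⟨m, hm⟩ := exists_cp (d' := d') (P := P) a hV (dn (cmp (T := spc X) (R := X.sheaf) d t a V le_rfl hV))
    refine ⟨up (P := twObj d' P) m, ?_⟩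
    refine tw_ext_of_le (T := spc X) (R := X.sheaf) (i := a) hV ?_
    rw [cmp_pushTwHom, dn_up, hm, up_dn]

/-- The direct image commutes with twisting. -/
def pushTw (h : IsAn d d') :
    Tw d' ⋙ An.anPush X ≅ An.anPush X ⋙ (show X.Modules ⥤ X.Modules from Tw (T := spc X) (R := X.sheaf) d) :=
  NatIso.ofComponents (fun P => @asIso _ _ _ _ (pushTwHom h P) (isIso_pushTwHom h P)) (fun {P Q} f => by
    refine hom_ext (T := spc X) (R := X.sheaf) fun V m => tw_ext (T := spc X) (R := X.sheaf) ?_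
    intro i W hV hi
    change cmp (T := spc X) (R := X.sheaf) d (app (T := spc X) (R := X.sheaf) (pushTwHom h Q) V
        (app (T := spc X) (R := X.sheaf) ((An.anPush X).map (twMap d' f)) V m)) i W hV hi =
      cmp (T := spc X) (R := X.sheaf) d (app (T := spc X) (R := X.sheaf)
        (twMap (T := spc X) (R := X.sheaf) d ((An.anPush X).map f)) V
        (app (T := spc X) (R := X.sheaf) (pushTwHom h P) V m)) i W hV hi
    rw [cmp_pushTwHom, cmp_twMap, cmp_pushTwHom, dn_app, cp_map]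
    rfl)

/-- Analytification commutes with twisting by a cocycle. -/
theorem tw_analytify (c : Coc 𝒰 X.sheaf) :
    Nonempty ((show X.Modules ⥤ X.Modules from Tw c) ⋙ An.analytify X ≅ An.analytify X ⋙ Tw (anCoc c)) := by
  have h : IsAn c.inv (anCoc c).inv := (isAn_anCoc c).inv
  let a1 : (show X.Modules ⥤ X.Modules from Tw c) ⋙ An.analytify X ⊣
      An.anPush X ⋙ (show X.Modules ⥤ X.Modules from Tw (T := spc X) (R := X.sheaf) c.inv) :=
    Adjunction.comp (show (show X.Modules ⥤ X.Modules from Tw c) ⊣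
      (show X.Modules ⥤ X.Modules from Tw (T := spc X) (R := X.sheaf) c.inv) from twAdj (isInv_inv c))
      (An.analytifyAdj X)
  let a2 : An.analytify X ⋙ Tw (anCoc c) ⊣ Tw (anCoc c).inv ⋙ An.anPush X :=
    Adjunction.comp (An.analytifyAdj X) (twAdj (isInv_inv (anCoc c)))
  exact ⟨(conjugateIsoEquiv a2 a1).symm (pushTw h)⟩

end Groth.Agent.Gaga.H112.TwAn
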